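import Mathlib
import Cfsg.Agent.Lib.Helper4.BG1218H
import Cfsg.Agent.Lib.helper3.BG13A
import Cfsg.Agent.H2.BG12.G

/-!
# B&G Theorem 13.9 (S1378, the σ-partition), part A (helper2): the configuration `Cfg`

`Cfg M L t T`: `M`, `L` maximal, NOT conjugate, `T` a nontrivial Sylow `t`-subgroup of `G` with
`N_G(T) ≤ M ∩ L`.  (Blueprint Part 14, Σ0–Σ2.)  The goal of the files `H2/BG13/*` is `Cfg → False`
(given S1428).
-/

set_option autoImplicit false
set_option linter.unusedVariables false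
set_option linter.unusedSectionVars false
set_option linter.style.haveILetI false

open scoped commutatorElement Pointwise

namespace Cfsg.Agent.H2.BG13

open Cfsg Cfsg.Agent.Lib.Helper8.BGTen Cfsg.Agent.Lib.Helper4.BGTrans Cfsg.Agent.H2.BG11
open Cfsg.Agent.H2.BGU
open Cfsg.Agent.Lib.Helper7 (IsSylowIn exists_isSylowIn_ge)
open Cfsg.Agent.Lib.helper3.BG12 (PairC pair_c)

universe u

variable {G : Type u} [Group G] [Finite G]

/-- the configuration Σ of the blueprint (Part 14) -/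
structure Cfg (M L : Subgroup G) (t : ℕ) (T : Subgroup G) : Prop where
  hM : IsCoatom M
  hL : IsCoatom L
  hnc : ∀ g : G, cj g L ≠ M
  ht : t.Prime
  hT : IsSylowIn t T ⊤
  hT1 : T ≠ ⊥
  hN : Subgroup.normalizer (T : Set G) ≤ M ⊓ L

namespace Cfg

variable {M L T : Subgroup G} {t : ℕ}

theorem symm (h : Cfg M L t T) : Cfg L M t T where
  hM := h.hL
  hL := h.hM
  hnc := by
    intro g hg
    apply h.hnc g⁻¹
    rw [← hg, cj_inv_cj]
  ht := h.ht
  hT := h.hT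
  hT1 := h.hT1
  hN := by rw [inf_comm]; exact h.hN

theorem ne (h : Cfg M L t T) : L ≠ M := by
  intro e
  apply h.hnc 1
  rw [cj_one, e]

theorem le_normalizer (h : Cfg M L t T) : T ≤ Subgroup.normalizer (T : Set G) :=
  Subgroup.le_normalizer

theorem leM (h : Cfg M L t T) : T ≤ M := h.le_normalizer.trans (h.hN.trans inf_le_left)

theorem leL (h : Cfg M L t T) : T ≤ L := h.le_normalizer.trans (h.hN.trans inf_le_right)

theorem leJ (h : Cfg M L t T) : T ≤ M ⊓ L := le_inf h.leM h.leL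

theorem isPGroup (h : Cfg M L t T) : IsPGroup t ↥T := h.hT.isPGroup

theorem sylM (h : Cfg M L t T) : IsSylowIn t T M :=
  haveI : Fact t.Prime := ⟨h.ht⟩
  sylIn_of_sylIn_top h.hT h.leM

theorem sylL (h : Cfg M L t T) : IsSylowIn t T L := h.symm.sylM

theorem sylJ (h : Cfg M L t T) : IsSylowIn t T (M ⊓ L) :=
  haveI : Fact t.Prime := ⟨h.ht⟩
  sylIn_of_sylIn_top h.hT h.leJ

theorem mem_sigmaM (h : Cfg M L t T) : t ∈ Cfsg.sigma M :=
  haveI : Fact t.Prime := ⟨h.ht⟩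
  Cfsg.Agent.Lib.helper3.BG11.mem_sigma_of_sylIn h.sylM h.hT1 (h.hN.trans inf_le_left)

theorem mem_sigmaL (h : Cfg M L t T) : t ∈ Cfsg.sigma L := h.symm.mem_sigmaM

theorem le_sigmaCoreM (hG : Cfsg.IsMinSimpleOddOrder G) (h : Cfg M L t T) :
    T ≤ Cfsg.sigmaCore M :=
  le_sigmaCore_of_pgroup hG h.hM h.mem_sigmaM h.leM h.isPGroup

theorem le_sigmaCoreL (hG : Cfsg.IsMinSimpleOddOrder G) (h : Cfg M L t T) :
    T ≤ Cfsg.sigmaCore L := h.symm.le_sigmaCoreM hG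

/-- helper3's B&G 12.14(c), both ways -/
theorem pair (hG : Cfsg.IsMinSimpleOddOrder G) (h : Cfg M L t T) : PairC M L ∧ PairC L M :=
  haveI : Fact t.Prime := ⟨h.ht⟩
  pair_c hG h.hM h.hL h.hnc h.hT h.hT1 (h.hN.trans inf_le_left) (h.hN.trans inf_le_right)

theorem alpha_eq_beta (hG : Cfsg.IsMinSimpleOddOrder G) (h : Cfg M L t T) :
    Cfsg.alpha M = Cfsg.beta M := (h.pair hG).1.2.2.1

theorem alphaCore_ne_bot (hG : Cfsg.IsMinSimpleOddOrder G) (h : Cfg M L t T) :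
    Cfsg.alphaCore M ≠ ⊥ := (h.pair hG).1.2.2.2.2.1

/-- `M = M_α (M ∩ L)` -/
theorem le_sup (hG : Cfsg.IsMinSimpleOddOrder G) (h : Cfg M L t T) :
    M ≤ Cfsg.alphaCore M ⊔ (M ⊓ L) := by
  have h1 := (h.pair hG).1
  rw [h1.2.2.2.1]
  exact h1.2.1

/-- `τ₁(L) ⊆ τ₁(M) ∪ α(M)` -/
theorem tau1_sub (hG : Cfsg.IsMinSimpleOddOrder G) (h : Cfg M L t T) {r : ℕ}
    (hr : r ∈ Cfsg.tau1 L) (hrα : r ∉ Cfsg.alpha M) : r ∈ Cfsg.tau1 M :=
  (h.pair hG).1.2.2.2.2.2 r hr hrα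

/-- `|M : M ∩ L|` is an `α(M)`-number -/
theorem not_dvd_relIndex (hG : Cfsg.IsMinSimpleOddOrder G) (h : Cfg M L t T) {q : ℕ}
    (hq : q.Prime) (hqα : q ∉ Cfsg.alpha M) : ¬ q ∣ L.relIndex M := by
  have h1 := (h.pair hG).1
  apply h1.1 q hq
  rw [← h1.2.2.1]
  exact hqα

/-- `α(M) ∩ σ(L) = ∅` -/
theorem alpha_not_sigma (hG : Cfsg.IsMinSimpleOddOrder G) (h : Cfg M L t T) {s : ℕ}
    (hs : s ∈ Cfsg.alpha M) : s ∉ Cfsg.sigma L := by
  intro hsL
  haveI : Fact s.Prime := ⟨hs.1⟩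
  obtain ⟨g, hg⟩ := exists_cj_eq_of_alpha_sigma hG h.hL h.hM hs hsL
  exact h.symm.hnc g hg

theorem t_not_alpha (hG : Cfsg.IsMinSimpleOddOrder G) (h : Cfg M L t T) : t ∉ Cfsg.alpha M :=
  fun ht => h.alpha_not_sigma hG ht h.mem_sigmaL

/-- `C_{M_α}(T)` has cyclic Sylow subgroups (S1406 with `X := T`) -/
theorem rankLE_one (hG : Cfsg.IsMinSimpleOddOrder G) (h : Cfg M L t T) :
    Cfsg.RankLE 1 ↥(Cfsg.alphaCore M ⊓ Subgroup.centralizer (T : Set G)) := by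
  by_contra hr
  have hα : ∀ p : ℕ, p.Prime → p ∣ Nat.card ↥T → p ∉ Cfsg.alpha M := by
    intro p hp hpd
    haveI : Fact t.Prime := ⟨h.ht⟩
    obtain ⟨n, hn⟩ := h.isPGroup.exists_card_eq
    rw [hn] at hpd
    have : p = t := (Nat.prime_dvd_prime_iff_eq hp h.ht).mp (hp.dvd_of_dvd_pow hpd)
    rw [this]
    exact h.t_not_alpha hG
  have hu := Cfsg.Agent.S1406.result hG M h.hM T h.leM hα hr
  have hle : M ⊓ Subgroup.centralizer (T : Set G) ≤ L :=
    inf_le_right.trans ((Subgroup.centralizer_le_normalizer _).trans (h.hN.trans inf_le_right))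
  exact h.ne (Cfsg.Agent.Lib.Helper4.BGUniq.le_of_inUniqueMaximal hu h.hL hle h.hM inf_le_left)

end Cfg

/-- two non-conjugate maximal subgroups with a common `σ`-prime give a configuration -/
theorem exists_cfg (hG : Cfsg.IsMinSimpleOddOrder G) {M L : Subgroup G} (hM : IsCoatom M)
    (hL : IsCoatom L) (hnc : ∀ g : G, cj g L ≠ M) {t : ℕ} (htM : t ∈ Cfsg.sigma M)
    (htL : t ∈ Cfsg.sigma L) : ∃ (g : G) (T : Subgroup G), Cfg M (cj g L) t T := by
  haveI : Fact t.Prime := ⟨htM.1⟩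
  obtain ⟨TM, hTM, -⟩ := exists_isSylowIn_ge (p := t) (Q := ⊥) (H := M) IsPGroup.of_bot bot_le
  obtain ⟨TL, hTL, -⟩ := exists_isSylowIn_ge (p := t) (Q := ⊥) (H := L) IsPGroup.of_bot bot_le
  have hTMtop := sigma_sylow_top htM hTM
  have hTLtop := sigma_sylow_top htL hTL
  obtain ⟨g, -, hg⟩ := hTLtop.conj hTMtop
  have hg' : TM = cj g TL := hg
  refine ⟨g, TM, ⟨hM, isCoatom_cj hL g, ?_, htM.1, hTMtop, sylIn_ne_bot hTM htM.2.1, ?_⟩⟩
  · intro a ha
    apply hnc (a * g)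
    rw [cj_mul]
    exact ha
  · refine le_inf (sigma_normalizer_le htM hTM) ?_
    rw [hg', ← cj_normalizer]
    exact cj_mono g (sigma_normalizer_le htL hTL)

end Cfsg.Agent.H2.BG13
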