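import Mathlib
import Cfsg.Agent.H2.BG13.A
import Cfsg.Agent.H1.NormMap
import Cfsg.Agent.H1.CoprimeHall
import Cfsg.Agent.S1411
import Cfsg.Agent.S1414
import Cfsg.Agent.S1415
import Cfsg.Agent.S1417
import Cfsg.Agent.S1422

/-!
# B&G Theorem 13.9 (S1378), part B (helper2): Σ3–Σ4 of the blueprint (Part 14)

In a configuration `Cfg M L t T` with `J := M ∩ L` and `J'` nilpotent:
`τ₂(M) = ∅`, `T` is abelian and normal in `J`, `J ∩ M_σ` and the `τ₃(M)`-elements of `J`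
centralize `T`, and for a complement `E ≤ J` of `M_σ` with Hall `τ₁(M)`-subgroup `E₁`:
`C_T(E₁) = 1`, `E₁ ≠ 1`.
-/

set_option autoImplicit false
set_option linter.unusedVariables false
set_option linter.unusedSectionVars false
set_option linter.style.haveILetI false
set_option maxHeartbeats 1000000

open scoped commutatorElement Pointwise

namespace Cfsg.Agent.H2.BG13

open Cfsg Cfsg.Agent.Lib.Helper8.BGTen Cfsg.Agent.Lib.Helper4.BGTrans Cfsg.Agent.H2.BG11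
open Cfsg.Agent.H2.BGU
open Cfsg.Agent.Lib.Helper7 (IsSylowIn exists_isSylowIn_ge)

universe u

variable {G : Type u} [Group G] [Finite G]

/-! ### general lemmas -/

/-- a normal Hall subgroup has a complement (Schur–Zassenhaus), in the `IsComplIn` form -/
theorem exists_isComplIn_of_coprime {N H : Subgroup G} (hNH : N ≤ H)
    (hn : H ≤ Subgroup.normalizer (N : Set G))
    (hcop : (Nat.card ↥N).Coprime (N.relIndex H)) : ∃ V : Subgroup G, Cfsg.IsComplIn N V H := by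
  haveI : (N.subgroupOf H).Normal := (Subgroup.normal_subgroupOf_iff_le_normalizer hNH).mpr hn
  have hcop' : (Nat.card ↥(N.subgroupOf H)).Coprime (N.subgroupOf H).index := by
    rw [Cfsg.Agent.Lib.Helper7.card_subgroupOf_of_le hNH]
    exact hcop
  obtain ⟨V, hV⟩ := Subgroup.exists_right_complement'_of_coprime hcop'
  refine ⟨V.map H.subtype, hNH, Subgroup.map_subtype_le _, ?_, ?_⟩
  · rw [eq_bot_iff]
    rintro x ⟨hxN, ⟨b, hb, hbx⟩⟩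
    have h1 : b ∈ N.subgroupOf H ⊓ V := by
      refine ⟨?_, hb⟩
      show b ∈ N.subgroupOf H
      rw [Subgroup.mem_subgroupOf]
      have : (b : G) = x := hbx
      rw [this]; exact hxN
    rw [hV.disjoint.eq_bot, Subgroup.mem_bot] at h1
    have : (b : G) = x := hbx
    rw [← this, h1]
    exact Subgroup.one_mem _
  · intro m hm
    obtain ⟨⟨⟨a, ha⟩, ⟨b, hb⟩⟩, hab, -⟩ := hV.existsUnique ⟨m, hm⟩
    refine ⟨(a : G), Subgroup.mem_subgroupOf.mp ha, (b : G), ⟨b, hb, rfl⟩, ?_⟩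
    have := congrArg Subtype.val hab
    simpa using this.symm

/-- in a nilpotent group, a `t`-subgroup and an `r`-subgroup (`t ≠ r`) commute -/
theorem le_centralizer_of_nilpotent {N X Y : Subgroup G} (hN : Group.IsNilpotent ↥N) {t r : ℕ}
    [ht : Fact t.Prime] [hr : Fact r.Prime] (htr : t ≠ r) (hXN : X ≤ N) (hX : IsPGroup t ↥X)
    (hYN : Y ≤ N) (hY : IsPGroup r ↥Y) : X ≤ Subgroup.centralizer (Y : Set G) :=
  (le_Oq_of_isPGroup hN hXN hX).trans ((Oq_commute ht.out hr.out htr N).trans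
    (Subgroup.centralizer_le (le_Oq_of_isPGroup hN hYN hY)))

/-- `J ≤ N_G(J')` -/
theorem le_normalizer_commutator (J : Subgroup G) :
    J ≤ Subgroup.normalizer ((⁅J, J⁆ : Subgroup G) : Set G) := by
  intro j hj
  apply mem_normalizer_of_cj_eq
  show Subgroup.map (MulAut.conj j).toMonoidHom ⁅J, J⁆ = ⁅J, J⁆
  rw [Subgroup.map_commutator]
  have : Subgroup.map (MulAut.conj j).toMonoidHom J = J := cj_eq_of_mem hj
  rw [this]

/-- if `A` is abelian and normalized by the abelian group `P` then `(AP)' ≤ [A, P]` -/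
theorem commutator_sup_le {A P : Subgroup G} (hA : IsMulCommutative ↥A) (hP : IsMulCommutative ↥P)
    (hPA : P ≤ Subgroup.normalizer (A : Set G)) : ⁅A ⊔ P, A ⊔ P⁆ ≤ ⁅A, P⁆ := by
  rw [Subgroup.commutator_le]
  intro g₁ hg₁ g₂ hg₂
  obtain ⟨a₁, ha₁, p₁, hp₁, rfl⟩ := (Cfsg.Agent.H1.mem_sup_of_le_normalizer A P hPA).mp hg₁
  obtain ⟨a₂, ha₂, p₂, hp₂, rfl⟩ := (Cfsg.Agent.H1.mem_sup_of_le_normalizer A P hPA).mp hg₂
  have hpp : p₁ * p₂ = p₂ * p₁ :=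
    congrArg Subtype.val (hP.is_comm.comm (⟨p₁, hp₁⟩ : ↥P) ⟨p₂, hp₂⟩)
  have hb : p₁ * a₂ * p₁⁻¹ ∈ A := (Subgroup.mem_normalizer_iff.mp (hPA hp₁) a₂).mp ha₂
  have hc : p₂ * a₁⁻¹ * p₂⁻¹ ∈ A :=
    (Subgroup.mem_normalizer_iff.mp (hPA hp₂) a₁⁻¹).mp (A.inv_mem ha₁)
  have hbc : (p₁ * a₂ * p₁⁻¹) * (p₂ * a₁⁻¹ * p₂⁻¹) = (p₂ * a₁⁻¹ * p₂⁻¹) * (p₁ * a₂ * p₁⁻¹) :=
    congrArg Subtype.val (hA.is_comm.comm (⟨_, hb⟩ : ↥A) ⟨_, hc⟩)
  have h1 : ⁅a₁, p₂⁆ ∈ ⁅A, P⁆ := Subgroup.commutator_mem_commutator ha₁ hp₂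
  have h2 : ⁅a₂, p₁⁆ ∈ ⁅A, P⁆ := Subgroup.commutator_mem_commutator ha₂ hp₁
  have h3 : ⁅a₁ * p₁, a₂ * p₂⁆ = ⁅a₁, p₂⁆ * ⁅a₂, p₁⁆⁻¹ := by
    have e1 : ⁅a₁ * p₁, a₂ * p₂⁆
        = a₁ * ((p₁ * a₂ * p₁⁻¹) * (p₂ * a₁⁻¹ * p₂⁻¹)) * a₂⁻¹ := by
      rw [commutatorElement_def]
      have : a₁ * p₁ * (a₂ * p₂) * (a₁ * p₁)⁻¹ * (a₂ * p₂)⁻¹
          = a₁ * (p₁ * a₂ * p₁⁻¹) * (p₁ * p₂) * p₁⁻¹ * a₁⁻¹ * p₂⁻¹ * a₂⁻¹ := by group
      rw [this, hpp]
      group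
    rw [e1, hbc, commutatorElement_def, commutatorElement_def]
    group
  rw [h3]
  exact Subgroup.mul_mem _ h1 (Subgroup.inv_mem _ h2)

/-! ### Σ3, Σ4 -/

namespace Cfg

variable {M L T : Subgroup G} {t : ℕ}

/-- `(M ∩ L).relIndex M = L.relIndex M` is an `α(M)`-number -/
theorem not_dvd_relIndex_J (hG : Cfsg.IsMinSimpleOddOrder G) (h : Cfg M L t T) {q : ℕ}
    (hq : q.Prime) (hqα : q ∉ Cfsg.alpha M) : ¬ q ∣ (M ⊓ L).relIndex M := by
  rw [Subgroup.inf_relIndex_left]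
  exact h.not_dvd_relIndex hG hq hqα

/-- a Sylow `q`-subgroup of `J = M ∩ L` is a Sylow `q`-subgroup of `M` for `q ∉ α(M)` -/
theorem sylIn_M_of_sylIn_J (hG : Cfsg.IsMinSimpleOddOrder G) (h : Cfg M L t T) {q : ℕ}
    [hq : Fact q.Prime] (hqα : q ∉ Cfsg.alpha M) {Q : Subgroup G} (hQ : IsSylowIn q Q (M ⊓ L)) :
    IsSylowIn q Q M := by
  apply sylIn_of_not_dvd (hQ.1.trans inf_le_left) hQ.isPGroup
  rw [← Subgroup.relIndex_mul_relIndex Q (M ⊓ L) M hQ.1 inf_le_left, Nat.Prime.dvd_mul hq.out]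
  push Not
  exact ⟨not_dvd_relIndex_of_sylIn hQ, h.not_dvd_relIndex_J hG hq.out hqα⟩

/-- `q`-subgroups of `M` are `M`-conjugate into `J = M ∩ L` for `q ∉ α(M)` -/
theorem exists_cj_le (hG : Cfsg.IsMinSimpleOddOrder G) (h : Cfg M L t T) {q : ℕ}
    [hq : Fact q.Prime] (hqα : q ∉ Cfsg.alpha M) {Y : Subgroup G} (hYM : Y ≤ M)
    (hY : IsPGroup q ↥Y) : ∃ m ∈ M, cj m Y ≤ M ⊓ L := by
  obtain ⟨QJ, hQJ, -⟩ := exists_isSylowIn_ge (p := q) (Q := ⊥) (H := M ⊓ L) IsPGroup.of_bot bot_le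
  have hQM := h.sylIn_M_of_sylIn_J hG hqα hQJ
  obtain ⟨QM, hQMs, hYQ⟩ := exists_isSylowIn_ge hY hYM
  obtain ⟨m, hm, hm'⟩ := hQMs.conj hQM
  have hm'' : QJ = cj m QM := hm'
  refine ⟨m, hm, ?_⟩
  exact (cj_mono m hYQ).trans (hm''.symm.le.trans hQJ.1)

/-- **Σ3**: `τ₂(M) = ∅` -/
theorem not_tau2 (hG : Cfsg.IsMinSimpleOddOrder G) (h : Cfg M L t T) (q : ℕ) :
    q ∉ Cfsg.tau2 M := by
  intro hq
  haveI : Fact q.Prime := ⟨hq.1⟩
  obtain ⟨B, hBM, hBe, hBc⟩ := Cfsg.Agent.Lib.BG127H7.exists_elem_of_tau2 hq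
  have hqα : q ∉ Cfsg.alpha M := fun hα => hα.2 hq.2.2.1
  have hpg : IsPGroup q ↥B := IsPGroup.of_card hBc
  obtain ⟨m, hm, hle⟩ := h.exists_cj_le hG hqα hBM hpg
  have h17 := Cfsg.Agent.S1417.result hG M h.hM q hq (cj m B)
    ⟨hle.trans inf_le_left, Cfsg.Agent.H1.BG11c.isElementaryAbelian_cj m hBe,
      by rw [card_cj]; exact hBc⟩
  have h1 := h17.2.2.2.2.1 L h.hL h.ne (hle.trans inf_le_right)
  apply h.hT1
  rw [eq_bot_iff, ← h1]
  exact le_inf (h.le_sigmaCoreM hG) h.leL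

/-- **Σ4**: `T` is abelian (S1422) -/
theorem comm (hG : Cfsg.IsMinSimpleOddOrder G) (h : Cfg M L t T) : IsMulCommutative ↥T := by
  by_contra hna
  haveI : Fact t.Prime := ⟨h.ht⟩
  have hu := Cfsg.Agent.S1422.result hG t T h.isPGroup hna
  exact h.ne (Cfsg.Agent.Lib.Helper4.BGUniq.le_of_inUniqueMaximal hu h.hL h.leL h.hM h.leM)

/-- S1411 for `T`: a complement `V` of `T` in `N_G(T)` with `T = [T, V]`, and `T ≤ N_G(T)'` -/
theorem exists_compl_T (hG : Cfsg.IsMinSimpleOddOrder G) (h : Cfg M L t T) :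
    (∃ V : Subgroup G, Cfsg.IsComplIn T V (Subgroup.normalizer (T : Set G)) ∧ T = ⁅T, V⁆) ∧
      T ≤ ⁅Subgroup.normalizer (T : Set G), Subgroup.normalizer (T : Set G)⁆ := by
  haveI : Fact t.Prime := ⟨h.ht⟩
  have hsN : IsSylowIn t T (Subgroup.normalizer (T : Set G)) :=
    sylIn_of_sylIn_top h.hT Subgroup.le_normalizer
  have hcop : (Nat.card ↥T).Coprime (T.relIndex (Subgroup.normalizer (T : Set G))) := by
    obtain ⟨n, hn⟩ := h.isPGroup.exists_card_eq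
    rw [hn]
    exact Nat.Coprime.pow_left n
      ((Nat.Prime.coprime_iff_not_dvd h.ht).mpr (not_dvd_relIndex_of_sylIn hsN))
  obtain ⟨V, hV⟩ := exists_isComplIn_of_coprime (N := T) Subgroup.le_normalizer le_rfl hcop
  let P : Sylow t G := Sylow.ofCard T (by rw [h.hT.2, Subgroup.card_top])
  have hPT : (P : Subgroup G) = T := Sylow.coe_ofCard _ _
  have h11 := Cfsg.Agent.S1411.result hG t P V (by rw [hPT]; exact hV)
  rw [hPT] at h11
  exact ⟨⟨V, hV, h11.1⟩, h11.2⟩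

theorem le_commutator_J (hG : Cfsg.IsMinSimpleOddOrder G) (h : Cfg M L t T) :
    T ≤ ⁅M ⊓ L, M ⊓ L⁆ :=
  (h.exists_compl_T hG).2.trans (Subgroup.commutator_mono h.hN h.hN)

/-- **Σ4**: `T ⊴ J` -/
theorem le_normalizer_T (hG : Cfsg.IsMinSimpleOddOrder G) (h : Cfg M L t T)
    (hnil : Group.IsNilpotent ↥⁅M ⊓ L, M ⊓ L⁆) :
    M ⊓ L ≤ Subgroup.normalizer (T : Set G) := by
  haveI : Fact t.Prime := ⟨h.ht⟩
  have hTJ' := h.le_commutator_J hG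
  have hs : IsSylowIn t T ⁅M ⊓ L, M ⊓ L⁆ := sylIn_of_sylIn_top h.hT hTJ'
  have h1 : T ≤ Oq t ⁅M ⊓ L, M ⊓ L⁆ := le_Oq_of_isPGroup hnil hTJ' h.isPGroup
  have h2 : Oq t ⁅M ⊓ L, M ⊓ L⁆ = T := sylIn_eq_of_le hs (Oq_le t _) (isPGroup_Oq h.ht _) h1
  rw [← h2]
  exact (le_normalizer_commutator (M ⊓ L)).trans (normalizer_le_normalizer_Oq t _)

theorem normalizer_T_eq (hG : Cfsg.IsMinSimpleOddOrder G) (h : Cfg M L t T)
    (hnil : Group.IsNilpotent ↥⁅M ⊓ L, M ⊓ L⁆) :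
    Subgroup.normalizer (T : Set G) = M ⊓ L :=
  le_antisymm h.hN (h.le_normalizer_T hG hnil)

/-- **Σ4**: `J ∩ M_σ` centralizes `T` (via the normal `t`-complement of `M_σ`, S1414) -/
theorem inf_sigmaCore_le_centralizer (hG : Cfsg.IsMinSimpleOddOrder G) (h : Cfg M L t T)
    (hnil : Group.IsNilpotent ↥⁅M ⊓ L, M ⊓ L⁆) :
    M ⊓ L ⊓ Cfsg.sigmaCore M ≤ Subgroup.centralizer (T : Set G) := by
  haveI : Fact t.Prime := ⟨h.ht⟩
  have hTn := h.le_normalizer_T hG hnil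
  have hcomm := h.comm hG
  have htβ : t ∉ Cfsg.beta M := fun hb => h.t_not_alpha hG hb.1
  obtain ⟨-, ⟨P, N, hNn, hNP⟩, -⟩ :=
    (Cfsg.Agent.S1414.result hG M h.hM).2.2.2.2 t h.ht h.mem_sigmaM.2.1 htβ
  haveI := hNn
  have hidx : N.index = Nat.card ↥(P : Subgroup ↥(Cfsg.sigmaCore M)) := by
    have h1 := hNP.card_mul_card
    have h2 := N.card_mul_index
    exact Nat.eq_of_mul_eq_mul_left Nat.card_pos (h2.trans h1.symm)
  have hNt : ¬ t ∣ Nat.card ↥N := by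
    intro hd
    have h1 := hNP.card_mul_card
    have h3 : ¬ t ∣ (P : Subgroup ↥(Cfsg.sigmaCore M)).index := P.not_dvd_index
    apply h3
    have h4 := (P : Subgroup ↥(Cfsg.sigmaCore M)).card_mul_index
    have h5 : Nat.card ↥N = (P : Subgroup ↥(Cfsg.sigmaCore M)).index := by
      apply Nat.eq_of_mul_eq_mul_left (Nat.card_pos (α := ↥(P : Subgroup ↥(Cfsg.sigmaCore M))))
      rw [h4, ← h1, mul_comm]
    rw [← h5]; exact hd
  intro d hd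
  apply Cfsg.Agent.H2.BG12.mem_of_primary_parts (orderOf d) d rfl
  intro q hq hqd v hv hvq
  haveI : Fact q.Prime := ⟨hq⟩
  have hvJ : v ∈ M ⊓ L := (Subgroup.zpowers_le.mpr hd.1) hv
  have hvσ : v ∈ Cfsg.sigmaCore M := (Subgroup.zpowers_le.mpr hd.2) hv
  by_cases hqt : q = t
  · subst hqt
    have h1 : Subgroup.zpowers v ≤ T :=
      pgroup_le_of_relIndex hq (Subgroup.zpowers_le.mpr hvJ) h.leJ hTn hvq
        (not_dvd_relIndex_of_sylIn h.sylJ)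
    have hvT : v ∈ T := h1 (Subgroup.mem_zpowers v)
    rw [Subgroup.mem_centralizer_iff]
    intro x hx
    exact congrArg Subtype.val (hcomm.is_comm.comm (⟨x, hx⟩ : ↥T) ⟨v, hvT⟩)
  · -- `v` lies in the normal `t`-complement `N`
    have hvN : (⟨v, hvσ⟩ : ↥(Cfsg.sigmaCore M)) ∈ N := by
      have h1 : Subgroup.zpowers (⟨v, hvσ⟩ : ↥(Cfsg.sigmaCore M)) ≤ N := by
        apply Cfsg.Agent.Lib.helper3.BG12.le_of_coprime_index
        rw [hidx]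
        obtain ⟨n, hn⟩ := P.isPGroup'.exists_card_eq
        rw [hn]
        apply Nat.Coprime.pow_right
        have h2 : Nat.card ↥(Subgroup.zpowers (⟨v, hvσ⟩ : ↥(Cfsg.sigmaCore M)))
            = Nat.card ↥(Subgroup.zpowers v) := by
          rw [Nat.card_zpowers, Nat.card_zpowers]
          exact Subgroup.orderOf_mk v hvσ
        rw [h2]
        obtain ⟨k, hk⟩ := hvq.exists_card_eq
        rw [hk]
        exact Nat.Coprime.pow_left k ((Nat.coprime_primes hq h.ht).mpr hqt)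
      exact h1 (Subgroup.mem_zpowers _)
    rw [Subgroup.mem_centralizer_iff]
    intro x hx
    have hxσ : x ∈ Cfsg.sigmaCore M := h.le_sigmaCoreM hG hx
    -- `[x, v] ∈ T ∩ N = 1`
    have h1 : x * v * x⁻¹ * v⁻¹ ∈ T := by
      have : v * x⁻¹ * v⁻¹ ∈ T :=
        (Subgroup.mem_normalizer_iff.mp (hTn hvJ) x⁻¹).mp (T.inv_mem hx)
      have h2 := T.mul_mem hx this
      have e : x * (v * x⁻¹ * v⁻¹) = x * v * x⁻¹ * v⁻¹ := by group
      rwa [e] at h2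
    have h2 : (⟨x, hxσ⟩ : ↥(Cfsg.sigmaCore M)) * ⟨v, hvσ⟩ * (⟨x, hxσ⟩ : ↥(Cfsg.sigmaCore M))⁻¹
        * (⟨v, hvσ⟩ : ↥(Cfsg.sigmaCore M))⁻¹ ∈ N :=
      N.mul_mem (hNn.conj_mem _ hvN _) (N.inv_mem hvN)
    have h3 : x * v * x⁻¹ * v⁻¹ = 1 := by
      have hpg : IsPGroup t ↥(Subgroup.zpowers (x * v * x⁻¹ * v⁻¹)) :=
        h.isPGroup.to_le (Subgroup.zpowers_le.mpr h1)
      obtain ⟨k, hk⟩ := hpg.exists_card_eq
      rw [Nat.card_zpowers] at hk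
      have h4 : orderOf (x * v * x⁻¹ * v⁻¹) ∣ Nat.card ↥N := by
        have h5 : orderOf ((⟨x, hxσ⟩ : ↥(Cfsg.sigmaCore M)) * ⟨v, hvσ⟩
            * (⟨x, hxσ⟩ : ↥(Cfsg.sigmaCore M))⁻¹ * (⟨v, hvσ⟩ : ↥(Cfsg.sigmaCore M))⁻¹)
            = orderOf (x * v * x⁻¹ * v⁻¹) := by
          rw [← Subgroup.orderOf_coe]
          rfl
        rw [← h5]
        have h6 := Subgroup.card_dvd_of_le (Subgroup.zpowers_le.mpr h2)
        rwa [Nat.card_zpowers] at h6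
      rcases Nat.eq_zero_or_pos k with hk0 | hk0
      · rw [hk0, pow_zero] at hk
        exact orderOf_eq_one_iff.mp hk
      · exfalso
        apply hNt
        refine dvd_trans ?_ h4
        rw [hk]
        exact dvd_pow_self t hk0.ne'
    have e : x * v = (x * v * x⁻¹ * v⁻¹) * (v * x) := by group
    rw [e, h3, one_mul]

end Cfg

/-- a prime divisor of `|M|` outside `σ(M)` lies in `τ₁(M) ∪ τ₂(M) ∪ τ₃(M)` -/
theorem tau_cases (hG : Cfsg.IsMinSimpleOddOrder G) {M : Subgroup G} (hM : IsCoatom M) {q : ℕ}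
    (hq : q.Prime) (hqM : q ∣ Nat.card ↥M) (hqσ : q ∉ Cfsg.sigma M) :
    q ∈ Cfsg.tau1 M ∨ q ∈ Cfsg.tau2 M ∨ q ∈ Cfsg.tau3 M := by
  by_cases h1 : Cfsg.PRankLE q 1 ↥M
  · by_cases h2 : q ∣ Nat.card ↥⁅M, M⁆
    · exact Or.inr (Or.inr ⟨hq, hqσ, h2, h1⟩)
    · exact Or.inl ⟨hq, hqσ, hqM, h2, h1⟩
  · refine Or.inr (Or.inl ⟨hq, hqσ, ?_, h1⟩)
    by_contra h2
    exact hqσ (alpha_subset_sigma hG (Cfsg.Agent.H2.BG11.uniq hG) hM ⟨hq, h2⟩)

/-- with `τ₂(M) = ∅`, a complement `E` is generated by a Hall `τ₃(M)`- and a Hall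
`τ₁(M)`-subgroup -/
theorem compl_le_sup (hG : Cfsg.IsMinSimpleOddOrder G) {M E E₁ E₃ : Subgroup G} (hM : IsCoatom M)
    (hE : Cfsg.IsComplIn E (Cfsg.sigmaCore M) M) (h2 : ∀ q : ℕ, q ∉ Cfsg.tau2 M)
    (hE₁ : Cfsg.IsPiHallOf (Cfsg.tau1 M) E₁ E) (hE₃ : Cfsg.IsPiHallOf (Cfsg.tau3 M) E₃ E) :
    E ≤ E₃ ⊔ E₁ := by
  rw [← Subgroup.relIndex_eq_one]
  by_contra hne
  obtain ⟨q, hq, hqd⟩ := Nat.exists_prime_and_dvd hne
  have hqE : q ∣ Nat.card ↥E := by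
    refine hqd.trans ?_
    rw [Cfsg.Agent.H1.card_eq_relIndex_mul_card (sup_le hE₃.1 hE₁.1)]
    exact dvd_mul_right _ _
  have hqσ : q ∉ Cfsg.sigma M := Cfsg.Agent.H2.BG12.not_mem_sigma_of_dvd_compl hG hM hE hq hqE
  have hqM : q ∣ Nat.card ↥M := hqE.trans (Subgroup.card_dvd_of_le hE.1)
  rcases tau_cases hG hM hq hqM hqσ with h | h | h
  · exact hE₁.2.2 q hq h (hqd.trans (Subgroup.relIndex_dvd_of_le_left E le_sup_right))
  · exact h2 q h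
  · exact hE₃.2.2 q hq h (hqd.trans (Subgroup.relIndex_dvd_of_le_left E le_sup_left))

namespace Cfg

variable {M L T : Subgroup G} {t : ℕ}

/-- `J = (J ∩ M_σ) E` for a complement `E ≤ J` -/
theorem J_le_sup (h : Cfg M L t T) {E : Subgroup G}
    (hE : Cfsg.IsComplIn E (Cfsg.sigmaCore M) M) (hEJ : E ≤ M ⊓ L) :
    M ⊓ L ≤ (M ⊓ L ⊓ Cfsg.sigmaCore M) ⊔ E := by
  intro j hj
  obtain ⟨e, he, s, hs, rfl⟩ := hE.2.2.2 j hj.1
  have hsJ : s ∈ M ⊓ L := by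
    have : s = e⁻¹ * (e * s) := by group
    rw [this]
    exact (M ⊓ L).mul_mem ((M ⊓ L).inv_mem (hEJ he)) hj
  exact Subgroup.mul_mem _ (Subgroup.mem_sup_right he) (Subgroup.mem_sup_left ⟨hsJ, hs⟩)

/-- **Σ4**: a Hall `τ₃(M)`-subgroup of a complement `E ≤ J` centralizes `T` -/
theorem tau3_le_centralizer (hG : Cfsg.IsMinSimpleOddOrder G) (h : Cfg M L t T)
    (hnil : Group.IsNilpotent ↥⁅M ⊓ L, M ⊓ L⁆) {E E₃ : Subgroup G}
    (hE : Cfsg.IsComplIn E (Cfsg.sigmaCore M) M) (hEJ : E ≤ M ⊓ L)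
    (hE₃ : Cfsg.IsPiHallOf (Cfsg.tau3 M) E₃ E) : E₃ ≤ Subgroup.centralizer (T : Set G) := by
  haveI : Fact t.Prime := ⟨h.ht⟩
  have h15 := ((Cfsg.Agent.S1415.result hG M h.hM E hE).2.2 E₃ hE₃).2.1
  have hE₃J' : E₃ ≤ ⁅M ⊓ L, M ⊓ L⁆ := h15.trans (Subgroup.commutator_mono hEJ hEJ)
  intro u hu
  apply Cfsg.Agent.H2.BG12.mem_of_primary_parts (orderOf u) u rfl
  intro q hq hqd v hv hvq
  haveI : Fact q.Prime := ⟨hq⟩
  have hvE₃ : Subgroup.zpowers v ≤ E₃ :=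
    Subgroup.zpowers_le.mpr ((Subgroup.zpowers_le.mpr hu) hv)
  have hqτ : q ∈ Cfsg.tau3 M := by
    apply hE₃.2.1 q hq
    refine dvd_trans ?_ (Subgroup.card_dvd_of_le (Subgroup.zpowers_le.mpr hu))
    rw [Nat.card_zpowers]; exact hqd
  have hqt : q ≠ t := by
    rintro rfl
    exact hqτ.2.1 h.mem_sigmaM
  have h1 := le_centralizer_of_nilpotent hnil hqt (hvE₃.trans hE₃J') hvq
    (h.le_commutator_J hG) h.isPGroup
  exact h1 (Subgroup.mem_zpowers v)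

/-- **Σ4**: `J = C_J(T) E₁` -/
theorem J_le_centralizer_sup (hG : Cfsg.IsMinSimpleOddOrder G) (h : Cfg M L t T)
    (hnil : Group.IsNilpotent ↥⁅M ⊓ L, M ⊓ L⁆) {E E₁ : Subgroup G}
    (hE : Cfsg.IsComplIn E (Cfsg.sigmaCore M) M) (hEJ : E ≤ M ⊓ L)
    (hE₁ : Cfsg.IsPiHallOf (Cfsg.tau1 M) E₁ E) :
    M ⊓ L ≤ (M ⊓ L ⊓ Subgroup.centralizer (T : Set G)) ⊔ E₁ := by
  haveI : Group.IsSolvable ↥E := solvable_of_le_coatom hG h.hM hE.1
  obtain ⟨E₃, hE₃⟩ := Cfsg.Agent.H1.exists_isPiHallOf (Cfsg.tau3 M) E inferInstance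
  have h1 := h.J_le_sup hE hEJ
  have h2 := compl_le_sup hG h.hM hE (h.not_tau2 hG) hE₁ hE₃
  have h3 := h.inf_sigmaCore_le_centralizer hG hnil
  have h4 := h.tau3_le_centralizer hG hnil hE hEJ hE₃
  refine h1.trans (sup_le ?_ (h2.trans (sup_le ?_ le_sup_right)))
  · exact le_sup_of_le_left (le_inf inf_le_left h3)
  · exact le_sup_of_le_left (le_inf (hE₃.1.trans hEJ) h4)

/-- **Σ4**: `C_T(E₁) = 1` -/
theorem inf_centralizer_E₁ (hG : Cfsg.IsMinSimpleOddOrder G) (h : Cfg M L t T)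
    (hnil : Group.IsNilpotent ↥⁅M ⊓ L, M ⊓ L⁆) {E E₁ : Subgroup G}
    (hE : Cfsg.IsComplIn E (Cfsg.sigmaCore M) M) (hEJ : E ≤ M ⊓ L)
    (hE₁ : Cfsg.IsPiHallOf (Cfsg.tau1 M) E₁ E) :
    T ⊓ Subgroup.centralizer (E₁ : Set G) = ⊥ := by
  haveI : Fact t.Prime := ⟨h.ht⟩
  obtain ⟨⟨V, hV, hTV⟩, -⟩ := h.exists_compl_T hG
  have hcomm := h.comm hG
  have hsN : IsSylowIn t T (Subgroup.normalizer (T : Set G)) :=
    sylIn_of_sylIn_top h.hT Subgroup.le_normalizer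
  have hcop : (Nat.card ↥V).Coprime (Nat.card ↥T) := by
    obtain ⟨n, hn⟩ := h.isPGroup.exists_card_eq
    rw [hn]
    apply Nat.Coprime.pow_right
    rw [Nat.coprime_comm, Nat.Prime.coprime_iff_not_dvd h.ht]
    intro hd
    obtain ⟨v, hv⟩ := exists_prime_orderOf_dvd_card' (G := ↥V) t hd
    have hvo : orderOf (v : G) = t := by rw [Subgroup.orderOf_coe]; exact hv
    have hpg : IsPGroup t ↥(Subgroup.zpowers (v : G)) :=
      IsPGroup.of_card (n := 1) (by rw [Nat.card_zpowers, hvo, pow_one])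
    have h1 : Subgroup.zpowers (v : G) ≤ T :=
      pgroup_le_of_relIndex h.ht (Subgroup.zpowers_le.mpr (hV.2.1 v.2)) Subgroup.le_normalizer
        le_rfl hpg (not_dvd_relIndex_of_sylIn hsN)
    have h2 : (v : G) ∈ T ⊓ V := ⟨h1 (Subgroup.mem_zpowers _), v.2⟩
    rw [hV.2.2.1, Subgroup.mem_bot] at h2
    rw [h2, orderOf_one] at hvo
    exact h.ht.one_lt.ne hvo
  have h1 := Cfsg.Agent.H1.commutator_inf_centralizer_eq_bot_of_abelian T V hcomm hV.2.1 hcop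
  rw [← hTV] at h1
  rw [eq_bot_iff, ← h1]
  rintro c ⟨hcT, hcE⟩
  refine ⟨hcT, ?_⟩
  show c ∈ Subgroup.centralizer (V : Set G)
  rw [Subgroup.mem_centralizer_iff]
  intro v hv
  have hvJ : v ∈ M ⊓ L := h.hN (hV.2.1 hv)
  have hJ := h.J_le_centralizer_sup hG hnil hE hEJ hE₁ hvJ
  have hE₁n : E₁ ≤ Subgroup.normalizer
      ((M ⊓ L ⊓ Subgroup.centralizer (T : Set G) : Subgroup G) : Set G) := by
    have hn1 : M ⊓ L ≤ Subgroup.normalizer
        ((M ⊓ L ⊓ Subgroup.centralizer (T : Set G) : Subgroup G) : Set G) := by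
      apply Cfsg.Agent.Lib.Helper4.BGTrans.le_normalizer_inf Subgroup.le_normalizer
      exact (h.le_normalizer_T hG hnil).trans (normalizer_le_normalizer_centralizer T)
    exact (hE₁.1.trans hEJ).trans hn1
  obtain ⟨x, hx, e, he, rfl⟩ := (Cfsg.Agent.H1.mem_sup_of_le_normalizer _ E₁ hE₁n).mp hJ
  have hxc : x * c = c * x := (Subgroup.mem_centralizer_iff.mp hx.2 c hcT).symm
  have hec : e * c = c * e := (Subgroup.mem_centralizer_iff.mp hcE e he)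
  calc x * e * c = x * (e * c) := by group
    _ = x * (c * e) := by rw [hec]
    _ = (x * c) * e := by group
    _ = c * x * e := by rw [hxc]
    _ = c * (x * e) := by group

end Cfg

end Cfsg.Agent.H2.BG13
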