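import Mathlib
import Cfsg.Agent.H2.BG13.B
import Cfsg.Agent.Lib.helper3.BG13C
import Cfsg.Agent.H1.BG1218C
import Cfsg.Agent.H1.QuadThree

/-!
# B&G Theorem 13.9 (S1378), part C (helper2): Σ5–Σ6 of the blueprint (Part 14)

Given the prime action of a Hall `τ₁(M)`-subgroup `E₁` of a complement `E ≤ J = M ∩ L`
(`PrimeAct M E₁`, from S1427 + S1428): `T E₁` is a Frobenius group, `τ₁(M) ∩ π(E₁) ⊆ τ₁(L)`,
`|E₁|` is prime and `C_{M_α}(E₁) ≠ 1` (helper3's `frobenius_prime_action`), and `C_{E*}(P) = P` for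
every complement `E*` containing a subgroup `P` of order `|E₁|`.
-/

set_option autoImplicit false
set_option linter.unusedVariables false
set_option linter.unusedSectionVars false
set_option linter.style.haveILetI false
set_option maxHeartbeats 1000000

open scoped commutatorElement Pointwise

namespace Cfsg.Agent.H2.BG13

open Cfsg Cfsg.Agent.Lib.Helper8.BGTen Cfsg.Agent.Lib.Helper4.BGTrans Cfsg.Agent.H2.BG11
open Cfsg.Agent.H2.BGU
open Cfsg.Agent.Lib.Helper7 (IsSylowIn exists_isSylowIn_ge)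
open Cfsg.Agent.Lib.helper3.BG13 (nilpotent_commutator_of_cfg exists_compl_le_inf
  frobenius_prime_action)

universe u

variable {G : Type u} [Group G] [Finite G]

/-- prime action of `E₁` on `M_σ` -/
def PrimeAct (M E₁ : Subgroup G) : Prop :=
  ∀ x ∈ E₁, x ≠ 1 → Cfsg.sigmaCore M ⊓ Subgroup.centralizer ({x} : Set G)
    = Cfsg.sigmaCore M ⊓ Subgroup.centralizer (E₁ : Set G)

/-- two normal subgroups `A ⊴ L`, `B ⊴ M` with `A ∩ B = 1` commute elementwise on `M ∩ L` -/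
theorem commute_of_normal_inf_eq_bot {M L A B : Subgroup G}
    (hA : L ≤ Subgroup.normalizer (A : Set G)) (hB : M ≤ Subgroup.normalizer (B : Set G))
    (hAB : A ⊓ B = ⊥) {x y : G} (hx : x ∈ A) (hxM : x ∈ M) (hy : y ∈ B) (hyL : y ∈ L) :
    x * y = y * x := by
  have h1 : x * y * x⁻¹ * y⁻¹ ∈ A := by
    have : y * x⁻¹ * y⁻¹ ∈ A := (Subgroup.mem_normalizer_iff.mp (hA hyL) x⁻¹).mp (A.inv_mem hx)
    have h2 := A.mul_mem hx this
    have e : x * (y * x⁻¹ * y⁻¹) = x * y * x⁻¹ * y⁻¹ := by group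
    rwa [e] at h2
  have h2 : x * y * x⁻¹ * y⁻¹ ∈ B := by
    have : x * y * x⁻¹ ∈ B := (Subgroup.mem_normalizer_iff.mp (hB hxM) y).mp hy
    exact B.mul_mem this (B.inv_mem hy)
  have h3 : x * y * x⁻¹ * y⁻¹ ∈ A ⊓ B := ⟨h1, h2⟩
  rw [hAB, Subgroup.mem_bot] at h3
  have e : x * y = (x * y * x⁻¹ * y⁻¹) * (y * x) := by group
  rw [e, h3, one_mul]

/-- **C_E(P) = P**: `τ₂(M) = ∅`, `E` a complement of `M_σ`, `P ≤ E` of order `p ∈ τ₁(M)` where `p`
is the full `τ₁(M)`-part of `|E|`; then `C_E(P) = P`. -/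
theorem compl_inf_centralizer_le (hG : Cfsg.IsMinSimpleOddOrder G) {M E P : Subgroup G}
    (hM : IsCoatom M) (hE : Cfsg.IsComplIn E (Cfsg.sigmaCore M) M)
    (h2 : ∀ q : ℕ, q ∉ Cfsg.tau2 M) {p : ℕ} (hp : p ∈ Cfsg.tau1 M) (hPE : P ≤ E)
    (hPc : Nat.card ↥P = p) (hτ : ∀ r : ℕ, r ∈ Cfsg.tau1 M → r ∣ Nat.card ↥E → r = p)
    (hpp : ¬ p ^ 2 ∣ Nat.card ↥E) : E ⊓ Subgroup.centralizer (P : Set G) ≤ P := by
  haveI : Fact p.Prime := ⟨hp.1⟩
  have hcardE : Nat.card ↥E = P.relIndex E * Nat.card ↥P :=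
    Cfsg.Agent.H1.card_eq_relIndex_mul_card hPE
  have hP₁ : Cfsg.IsPiHallOf (Cfsg.tau1 M) P E := by
    refine ⟨hPE, ?_, ?_⟩
    · intro r hr hrd
      rw [hPc] at hrd
      rw [(Nat.prime_dvd_prime_iff_eq hr hp.1).mp hrd]
      exact hp
    · intro r hr hrτ hrd
      have h1 : r ∣ Nat.card ↥E := by rw [hcardE]; exact hrd.trans (dvd_mul_right _ _)
      have h3 : r = p := hτ r hrτ h1
      apply hpp
      rw [hcardE, hPc, sq]
      exact Nat.mul_dvd_mul (h3 ▸ hrd) (dvd_refl p)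
  haveI : Group.IsSolvable ↥E := solvable_of_le_coatom hG hM hE.1
  obtain ⟨E₃, hE₃⟩ := Cfsg.Agent.H1.exists_isPiHallOf (Cfsg.tau3 M) E inferInstance
  obtain ⟨hcyc₃, hE₃', hE₃n⟩ := (Cfsg.Agent.S1415.result hG M hM E hE).2.2 E₃ hE₃
  have hPn : P ≤ Subgroup.normalizer (E₃ : Set G) := hPE.trans hE₃n
  have hle : E ≤ E₃ ⊔ P := compl_le_sup hG hM hE h2 hP₁ hE₃
  have hA : IsMulCommutative ↥E₃ := IsCyclic.isMulCommutative
  have hPcyc : IsCyclic ↥P := isCyclic_of_prime_card hPc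
  have hPab : IsMulCommutative ↥P := IsCyclic.isMulCommutative
  have h4 : ⁅E, E⁆ ≤ ⁅E₃, P⁆ :=
    (Subgroup.commutator_mono hle hle).trans (commutator_sup_le hA hPab hPn)
  have hcop : (Nat.card ↥P).Coprime (Nat.card ↥E₃) := by
    rw [hPc, Nat.Prime.coprime_iff_not_dvd hp.1]
    intro hd
    have h3 : p ∈ Cfsg.tau3 M := hE₃.2.1 p hp.1 hd
    exact hp.2.2.2.1 h3.2.2.1
  have h5 := Cfsg.Agent.H1.commutator_inf_centralizer_eq_bot_of_abelian E₃ P hA hPn hcop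
  have h6 : E₃ ⊓ Subgroup.centralizer (P : Set G) = ⊥ := by
    rw [eq_bot_iff, ← h5]
    exact inf_le_inf_right _ (hE₃'.trans h4)
  rintro x ⟨hxE, hxC⟩
  obtain ⟨a, ha, u, hu, rfl⟩ := (Cfsg.Agent.H1.mem_sup_of_le_normalizer E₃ P hPn).mp (hle hxE)
  have huC : u ∈ Subgroup.centralizer (P : Set G) := by
    rw [Subgroup.mem_centralizer_iff]
    intro b hb
    exact congrArg Subtype.val (hPab.is_comm.comm (⟨b, hb⟩ : ↥P) ⟨u, hu⟩)
  have haC : a ∈ Subgroup.centralizer (P : Set G) := by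
    have : a = (a * u) * u⁻¹ := by group
    rw [this]
    exact Subgroup.mul_mem _ hxC (Subgroup.inv_mem _ huC)
  have ha1 : a ∈ E₃ ⊓ Subgroup.centralizer (P : Set G) := ⟨ha, haC⟩
  rw [h6, Subgroup.mem_bot] at ha1
  rw [ha1, one_mul]
  exact hu

namespace Cfg

variable {M L T : Subgroup G} {t : ℕ}

theorem nil (hG : Cfsg.IsMinSimpleOddOrder G) (h : Cfg M L t T) :
    Group.IsNilpotent ↥⁅M ⊓ L, M ⊓ L⁆ := nilpotent_commutator_of_cfg hG h

/-- **Σ5**: `T E₁` is a Frobenius group -/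
theorem frob (hG : Cfsg.IsMinSimpleOddOrder G) (h : Cfg M L t T) {E E₁ : Subgroup G}
    (hE : Cfsg.IsComplIn E (Cfsg.sigmaCore M) M) (hEJ : E ≤ M ⊓ L)
    (hE₁ : Cfsg.IsPiHallOf (Cfsg.tau1 M) E₁ E) (hPA : PrimeAct M E₁) :
    ∀ x ∈ E₁, x ≠ 1 → T ⊓ Subgroup.centralizer ({x} : Set G) = ⊥ := by
  intro x hx hx1
  rw [eq_bot_iff, ← h.inf_centralizer_E₁ hG (h.nil hG) hE hEJ hE₁]
  refine le_inf inf_le_left ?_
  have h1 : T ⊓ Subgroup.centralizer ({x} : Set G)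
      ≤ Cfsg.sigmaCore M ⊓ Subgroup.centralizer ({x} : Set G) :=
    inf_le_inf_right _ (h.le_sigmaCoreM hG)
  rw [hPA x hx hx1] at h1
  exact h1.trans inf_le_right

/-- **Σ5**: the primes of `E₁` lie in `τ₁(L)` -/
theorem mem_tau1_L (hG : Cfsg.IsMinSimpleOddOrder G) (h : Cfg M L t T) {E E₁ : Subgroup G}
    (hE : Cfsg.IsComplIn E (Cfsg.sigmaCore M) M) (hEJ : E ≤ M ⊓ L)
    (hE₁ : Cfsg.IsPiHallOf (Cfsg.tau1 M) E₁ E) (hPA : PrimeAct M E₁) {p : ℕ} (hp : p.Prime)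
    (hpd : p ∣ Nat.card ↥E₁) : p ∈ Cfsg.tau1 L := by
  haveI : Fact p.Prime := ⟨hp⟩
  have hpτ : p ∈ Cfsg.tau1 M := hE₁.2.1 p hp hpd
  by_contra hpL
  have hpα : p ∈ Cfsg.alpha L := by
    by_contra hpα
    exact hpL (h.symm.tau1_sub hG hpτ hpα)
  obtain ⟨x, hx⟩ := exists_prime_orderOf_dvd_card' (G := ↥E₁) p hpd
  have hxo : orderOf (x : G) = p := by rw [Subgroup.orderOf_coe]; exact hx
  have hxJ : (x : G) ∈ M ⊓ L := hEJ (hE₁.1 x.2)
  have hpg : IsPGroup p ↥(Subgroup.zpowers (x : G)) :=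
    IsPGroup.of_card (n := 1) (by rw [Nat.card_zpowers, hxo, pow_one])
  have hxα : (x : G) ∈ Cfsg.alphaCore L :=
    Cfsg.Agent.Lib.Helper4.BG1218.le_alphaCore_of_pgroup hG h.hL hpα
      (Subgroup.zpowers_le.mpr hxJ.2) hpg (Subgroup.mem_zpowers _)
  have hbot : Cfsg.alphaCore L ⊓ Cfsg.sigmaCore M = ⊥ :=
    Cfsg.Agent.Lib.Helper4.BG1218.alphaCore_inf_sigmaCore_eq_bot hG h.hL h.hM h.symm.hnc
  have hx1 : (x : G) ≠ 1 := by
    intro h1
    rw [h1, orderOf_one] at hxo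
    exact hp.one_lt.ne hxo
  have hfr := h.frob hG hE hEJ hE₁ hPA x x.2 hx1
  apply h.hT1
  rw [eq_bot_iff, ← hfr]
  refine le_inf le_rfl ?_
  intro y hy
  rw [Subgroup.mem_centralizer_iff]
  intro z hz
  rw [Set.mem_singleton_iff] at hz
  subst hz
  exact commute_of_normal_inf_eq_bot (le_normalizer_alphaCore L) (le_normalizer_sigmaCore M) hbot
    hxα hxJ.1 (h.le_sigmaCoreM hG hy) (h.leL hy)

/-- **Σ6**: `|E₁|` is prime and `C_{M_α}(E₁) ≠ 1` -/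
theorem card_E₁_prime (hG : Cfsg.IsMinSimpleOddOrder G) (h : Cfg M L t T) {E E₁ : Subgroup G}
    (hE : Cfsg.IsComplIn E (Cfsg.sigmaCore M) M) (hEJ : E ≤ M ⊓ L)
    (hE₁ : Cfsg.IsPiHallOf (Cfsg.tau1 M) E₁ E) (hPA : PrimeAct M E₁) :
    (Nat.card ↥E₁).Prime ∧
      Cfsg.alphaCore M ⊓ Subgroup.centralizer (E₁ : Set G) ≠ ⊥ := by
  haveI : Fact t.Prime := ⟨h.ht⟩
  have hnil := h.nil hG
  have hTE := h.inf_centralizer_E₁ hG hnil hE hEJ hE₁
  have hcyc : IsCyclic ↥E₁ := (Cfsg.Agent.S1415.result hG M h.hM E hE).2.1 E₁ hE₁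
  have hE₁c : E₁ ≤ Subgroup.centralizer (E₁ : Set G) := by
    intro a ha
    rw [Subgroup.mem_centralizer_iff]
    intro b hb
    obtain ⟨g, hg⟩ := hcyc.exists_generator
    have ha' := hg ⟨a, ha⟩
    have hb' := hg ⟨b, hb⟩
    rw [Subgroup.mem_zpowers_iff] at ha' hb'
    obtain ⟨i, hi⟩ := ha'
    obtain ⟨j, hj⟩ := hb'
    have e1 : (g : G) ^ i = a := by
      have := congrArg Subtype.val hi
      simpa using this
    have e2 : (g : G) ^ j = b := by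
      have := congrArg Subtype.val hj
      simpa using this
    rw [← e1, ← e2, ← zpow_add, ← zpow_add, add_comm]
  have hE₁1 : E₁ ≠ ⊥ := by
    intro h0
    apply h.hT1
    rw [eq_bot_iff, ← hTE, h0]
    refine le_inf le_rfl ?_
    intro y _
    rw [Subgroup.mem_centralizer_iff]
    intro z hz
    rw [Subgroup.coe_bot, Set.mem_singleton_iff] at hz
    rw [hz, one_mul, mul_one]
  have hKR : T ⊓ E₁ = ⊥ := by
    rw [eq_bot_iff, ← hTE]
    exact inf_le_inf_left T hE₁c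
  have hRK : E₁ ≤ Subgroup.normalizer (T : Set G) :=
    (hE₁.1.trans hEJ).trans (h.le_normalizer_T hG hnil)
  have hαM : Cfsg.alphaCore M ≤ M := alphaCore_le M
  have hQs : Group.IsSolvable ↥(Cfsg.alphaCore M) := solvable_of_le_coatom hG h.hM hαM
  have hKQ : T ≤ Subgroup.normalizer (Cfsg.alphaCore M : Set G) :=
    h.leM.trans (le_normalizer_alphaCore M)
  have hRQ : E₁ ≤ Subgroup.normalizer (Cfsg.alphaCore M : Set G) :=
    (hE₁.1.trans hE.1).trans (le_normalizer_alphaCore M)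
  have hcopTE : (Nat.card ↥T).Coprime (Nat.card ↥E₁) := by
    obtain ⟨n, hn⟩ := h.isPGroup.exists_card_eq
    rw [hn]
    apply Nat.Coprime.pow_left
    rw [Nat.Prime.coprime_iff_not_dvd h.ht]
    intro hd
    exact (hE₁.2.1 t h.ht hd).2.1 h.mem_sigmaM
  have hcop : (Nat.card ↥(T ⊔ E₁)).Coprime (Nat.card ↥(Cfsg.alphaCore M)) := by
    rw [Cfsg.Agent.H1.card_sup_of_le_normalizer_coprime T E₁ hRK hcopTE]
    apply Nat.Coprime.mul_left
    · obtain ⟨n, hn⟩ := h.isPGroup.exists_card_eq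
      rw [hn]
      apply Nat.Coprime.pow_left
      rw [Nat.Prime.coprime_iff_not_dvd h.ht]
      intro hd
      exact h.t_not_alpha hG (mem_alpha_of_dvd_alphaCore M h.ht hd)
    · apply Nat.coprime_of_dvd
      intro k hk hk1 hk2
      have h1 : k ∈ Cfsg.tau1 M := hE₁.2.1 k hk hk1
      have h2 : k ∈ Cfsg.alpha M := mem_alpha_of_dvd_alphaCore M hk hk2
      exact h1.2.1 (alpha_subset_sigma hG (Cfsg.Agent.H2.BG11.uniq hG) h.hM h2)
  have hnc : ¬ Cfsg.alphaCore M ≤ Subgroup.centralizer (T : Set G) := by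
    intro hle
    have h1 : Cfsg.alphaCore M ≤ L :=
      hle.trans ((Subgroup.centralizer_le_normalizer _).trans (h.hN.trans inf_le_right))
    exact h.ne (Cfsg.Agent.H1.BG1218.eq_of_alphaCore_le hG h.hM h.hL (h.alphaCore_ne_bot hG) h1)
  have hασ : Cfsg.alphaCore M ≤ Cfsg.sigmaCore M := (Cfsg.Agent.S1405.result hG M h.hM).2.2.1
  have hpr : ∀ x ∈ E₁, x ≠ 1 →
      Cfsg.alphaCore M ⊓ Subgroup.centralizer ({x} : Set G)
        = Cfsg.alphaCore M ⊓ Subgroup.centralizer (E₁ : Set G) := by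
    intro x hx hx1
    have h1 := hPA x hx hx1
    have e1 : Cfsg.alphaCore M ⊓ Subgroup.centralizer ({x} : Set G)
        = Cfsg.alphaCore M ⊓ (Cfsg.sigmaCore M ⊓ Subgroup.centralizer ({x} : Set G)) := by
      rw [← inf_assoc, inf_eq_left.mpr hασ]
    have e2 : Cfsg.alphaCore M ⊓ Subgroup.centralizer (E₁ : Set G)
        = Cfsg.alphaCore M ⊓ (Cfsg.sigmaCore M ⊓ Subgroup.centralizer (E₁ : Set G)) := by
      rw [← inf_assoc, inf_eq_left.mpr hασ]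
    rw [e1, e2, h1]
  have key := frobenius_prime_action T E₁ (Cfsg.alphaCore M) h.hT1 hE₁1 hKR hRK
    (h.frob hG hE hEJ hE₁ hPA) hQs hKQ hRQ hcop hnc hpr
  exact ⟨key.1, key.2.1⟩

end Cfg

end Cfsg.Agent.H2.BG13
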