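import Mathlib
import Cfsg.Agent.H2.BG13.C
import Cfsg.Agent.Lib.Helper5.BG13S3
import Cfsg.Agent.Lib.Helper4.BG1218E

/-!
# B&G Theorem 13.9 (S1378), part D (helper2): Σ7–Σ9 and the assembly `Cfg → False`

Hypotheses still taken as `Prop`s here: `HypPA` (prime action of Hall `τ₁`-subgroups, from
S1427 + S1428) and `HypTransfer` (coprime-action Sylow transfer, from S0024).
-/

set_option autoImplicit false
set_option linter.unusedVariables false
set_option linter.unusedSectionVars false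
set_option linter.style.haveILetI false
set_option maxHeartbeats 1000000

open scoped commutatorElement Pointwise

namespace Cfsg.Agent.H2.BG13

open Cfsg Cfsg.Agent.Lib.Helper8.BGTen Cfsg.Agent.Lib.Helper4.BGTrans Cfsg.Agent.H2.BG11
open Cfsg.Agent.H2.BGU
open Cfsg.Agent.Lib.Helper7 (IsSylowIn exists_isSylowIn_ge)
open Cfsg.Agent.Lib.helper3.BG13 (nilpotent_commutator_of_cfg exists_compl_le_inf)

universe u

variable {G : Type u} [Group G] [Finite G]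

/-- prime action of every Hall `τ₁(M)`-subgroup of every complement -/
def HypPA (G : Type u) [Group G] : Prop :=
  ∀ (M E E₁ : Subgroup G), IsCoatom M → Cfsg.IsComplIn E (Cfsg.sigmaCore M) M →
    Cfsg.IsPiHallOf (Cfsg.tau1 M) E₁ E → PrimeAct M E₁

/-- coprime action: fixed-point-freeness on one invariant Sylow subgroup transfers to all -/
def HypTransfer (G : Type u) [Group G] : Prop :=
  ∀ (P K Q₀ Q : Subgroup G) (q : ℕ), q.Prime → P ≤ Subgroup.normalizer (K : Set G) →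
    (Nat.card ↥P).Coprime (Nat.card ↥K) → Group.IsSolvable ↥K → IsSylowIn q Q₀ K →
    IsSylowIn q Q K → P ≤ Subgroup.normalizer (Q₀ : Set G) →
    P ≤ Subgroup.normalizer (Q : Set G) → Q₀ ⊓ Subgroup.centralizer (P : Set G) = ⊥ →
    Q ⊓ Subgroup.centralizer (P : Set G) = ⊥

theorem isPiHallOf_cj {π : Set ℕ} {H K : Subgroup G} (h : Cfsg.IsPiHallOf π H K) (g : G) :
    Cfsg.IsPiHallOf π (cj g H) (cj g K) := by
  obtain ⟨h1, h2, h3⟩ := h
  have hle : cj g H ≤ cj g K := cj_mono g h1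
  refine ⟨hle, ?_, ?_⟩
  · intro p hp hpd
    rw [card_cj] at hpd
    exact h2 p hp hpd
  · have e1 := Cfsg.Agent.H1.card_eq_relIndex_mul_card h1
    have e2 := Cfsg.Agent.H1.card_eq_relIndex_mul_card hle
    rw [card_cj, card_cj, e1] at e2
    have : (cj g H).relIndex (cj g K) = H.relIndex K :=
      (Nat.eq_of_mul_eq_mul_right Nat.card_pos e2).symm
    rw [this]
    exact h3

/-- numerical consequences of `P` being a Hall `τ₁(M)`-subgroup of prime order of `E` -/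
theorem hall_card_facts {M E P : Subgroup G} {p : ℕ} (hp : p.Prime)
    (hP : Cfsg.IsPiHallOf (Cfsg.tau1 M) P E) (hPc : Nat.card ↥P = p) :
    p ∈ Cfsg.tau1 M ∧ (∀ r : ℕ, r ∈ Cfsg.tau1 M → r ∣ Nat.card ↥E → r = p) ∧
      ¬ p ^ 2 ∣ Nat.card ↥E := by
  have hpτ : p ∈ Cfsg.tau1 M := hP.2.1 p hp (by rw [hPc])
  have hcard : Nat.card ↥E = P.relIndex E * Nat.card ↥P :=
    Cfsg.Agent.H1.card_eq_relIndex_mul_card hP.1
  refine ⟨hpτ, ?_, ?_⟩
  · intro r hr hrd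
    rw [hcard, hPc] at hrd
    rcases (Nat.Prime.dvd_mul hr.1).mp hrd with h | h
    · exact absurd h (hP.2.2 r hr.1 hr)
    · exact (Nat.prime_dvd_prime_iff_eq hr.1 hp).mp h
  · intro hd
    rw [hcard, hPc, sq] at hd
    exact hP.2.2 p hp hpτ (Nat.dvd_of_mul_dvd_mul_right hp.pos hd)

namespace Cfg

variable {M L T : Subgroup G} {t : ℕ}

/-- a subgroup of `J` of order `p = |E₁|` (prime) is a Sylow `p`-subgroup of `J` -/
theorem sylIn_J_of_card (hG : Cfsg.IsMinSimpleOddOrder G) (h : Cfg M L t T) {E E₁ : Subgroup G}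
    (hE : Cfsg.IsComplIn E (Cfsg.sigmaCore M) M) (hE₁ : Cfsg.IsPiHallOf (Cfsg.tau1 M) E₁ E)
    {p : ℕ} [hp : Fact p.Prime] (hE₁c : Nat.card ↥E₁ = p) {P : Subgroup G} (hPJ : P ≤ M ⊓ L)
    (hPc : Nat.card ↥P = p) : IsSylowIn p P (M ⊓ L) := by
  obtain ⟨hpτ, -, hpp⟩ := hall_card_facts hp.out hE₁ hE₁c
  apply sylIn_of_not_dvd hPJ (IsPGroup.of_card (n := 1) (by rw [hPc, pow_one]))
  intro hd
  have hcard : Nat.card ↥(M ⊓ L : Subgroup G) = P.relIndex (M ⊓ L) * Nat.card ↥P :=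
    Cfsg.Agent.H1.card_eq_relIndex_mul_card hPJ
  have hp2 : p ^ 2 ∣ Nat.card ↥(M ⊓ L : Subgroup G) := by
    rw [hcard, hPc, sq]
    exact Nat.mul_dvd_mul hd (dvd_refl p)
  obtain ⟨S₂, hS₂⟩ := Sylow.exists_subgroup_card_pow_prime p hp2
  have hS₂M : S₂.map (M ⊓ L).subtype ≤ M := (Subgroup.map_subtype_le _).trans inf_le_left
  have hS₂c : Nat.card ↥(S₂.map (M ⊓ L).subtype) = p ^ 2 := by
    rw [Subgroup.card_map_of_injective (Subgroup.subtype_injective _)]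
    exact hS₂
  have hcop : (Nat.card ↥(S₂.map (M ⊓ L).subtype)).Coprime (Nat.card ↥(Cfsg.sigmaCore M)) := by
    rw [hS₂c]
    apply Nat.Coprime.pow_left
    rw [Nat.Prime.coprime_iff_not_dvd hp.out]
    intro hd'
    exact hpτ.2.1 (mem_sigma_of_dvd_sigmaCore hG h.hM hp.out hd')
  obtain ⟨m, hm, hle⟩ := Cfsg.Agent.H2.BG12.exists_cj_compl_ge hG h.hM hE hS₂M hcop
  apply hpp
  have := Subgroup.card_dvd_of_le hle
  rwa [hS₂c, card_cj] at this

/-- replacing `(E, E₁)` by a `J`-conjugate: any `P ≤ J` of order `|E₁|` (prime) is a Hall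
`τ₁(M)`-subgroup of a complement `E' ≤ J` -/
theorem exists_compl_of_card (hG : Cfsg.IsMinSimpleOddOrder G) (h : Cfg M L t T)
    {E E₁ : Subgroup G} (hE : Cfsg.IsComplIn E (Cfsg.sigmaCore M) M) (hEJ : E ≤ M ⊓ L)
    (hE₁ : Cfsg.IsPiHallOf (Cfsg.tau1 M) E₁ E) {p : ℕ} (hp : p.Prime)
    (hE₁c : Nat.card ↥E₁ = p) {P : Subgroup G} (hPJ : P ≤ M ⊓ L) (hPc : Nat.card ↥P = p) :
    ∃ E' : Subgroup G, Cfsg.IsComplIn E' (Cfsg.sigmaCore M) M ∧ E' ≤ M ⊓ L ∧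
      Cfsg.IsPiHallOf (Cfsg.tau1 M) P E' := by
  haveI : Fact p.Prime := ⟨hp⟩
  have h1 := h.sylIn_J_of_card hG hE hE₁ hE₁c (hE₁.1.trans hEJ) hE₁c
  have h2 := h.sylIn_J_of_card hG hE hE₁ hE₁c hPJ hPc
  obtain ⟨j, hj, hjP⟩ := h1.conj h2
  have hjP' : P = cj j E₁ := hjP
  refine ⟨cj j E, Cfsg.Agent.H2.BG12.compl_cj hE hj.1, ?_, ?_⟩
  · have : cj j (M ⊓ L) = M ⊓ L := cj_eq_of_mem hj
    rw [← this]
    exact cj_mono j hEJ
  · rw [hjP']
    exact isPiHallOf_cj hE₁ j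

/-- **Σ7** (hypothesis `hfpf` of helper5's `centralizer_primes`): `P` acts fixed-point-freely on
every `P`-invariant Sylow `q`-subgroup of `M_σ`, `q ∈ σ(M) ∖ α(M)`.  The `L`-side enters through a
complement `E'` of `L_σ` in `L` containing `P` with `C_{E'}(P) ≤ P`. -/
theorem fpf_side (hG : Cfsg.IsMinSimpleOddOrder G) (hTr : HypTransfer G) (h : Cfg M L t T)
    {E P : Subgroup G} (hE : Cfsg.IsComplIn E (Cfsg.sigmaCore M) M) (hEJ : E ≤ M ⊓ L)
    (hP₁ : Cfsg.IsPiHallOf (Cfsg.tau1 M) P E) {p : ℕ} (hp : p.Prime) (hPc : Nat.card ↥P = p)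
    {E' : Subgroup G} (hE' : Cfsg.IsComplIn E' (Cfsg.sigmaCore L) L) (hPE' : P ≤ E')
    (hCE' : E' ⊓ Subgroup.centralizer (P : Set G) ≤ P) :
    ∀ q : ℕ, q.Prime → q ∈ Cfsg.sigma M → q ∉ Cfsg.alpha M → ∀ Q : Subgroup G,
      IsSylowIn q Q (Cfsg.sigmaCore M) → P ≤ Subgroup.normalizer (Q : Set G) →
      Q ⊓ Subgroup.centralizer (P : Set G) = ⊥ := by
  intro q hq hqσ hqα Q hQ hPQ
  haveI : Fact q.Prime := ⟨hq⟩
  haveI : Fact p.Prime := ⟨hp⟩
  obtain ⟨hpτ, -, -⟩ := hall_card_facts hp hP₁ hPc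
  have hPJ : P ≤ M ⊓ L := hP₁.1.trans hEJ
  have hPM : P ≤ M := hPJ.trans inf_le_left
  have hσM : Cfsg.sigmaCore M ≤ M := sigmaCore_le M
  have hPσ : P ≤ Subgroup.normalizer (Cfsg.sigmaCore M : Set G) :=
    hPM.trans (le_normalizer_sigmaCore M)
  have hcopσ : (Nat.card ↥P).Coprime (Nat.card ↥(Cfsg.sigmaCore M)) := by
    rw [hPc, Nat.Prime.coprime_iff_not_dvd hp]
    intro hd
    exact hpτ.2.1 (mem_sigma_of_dvd_sigmaCore hG h.hM hp hd)
  have hsolvσ : Group.IsSolvable ↥(Cfsg.sigmaCore M) := solvable_of_le_coatom hG h.hM hσM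
  -- a `P`-invariant Sylow `q`-subgroup of `D = J ∩ M_σ`
  obtain ⟨D, hD⟩ : ∃ D : Subgroup G, D = M ⊓ L ⊓ Cfsg.sigmaCore M := ⟨_, rfl⟩
  have hDσ : D ≤ Cfsg.sigmaCore M := hD ▸ inf_le_right
  have hDJ : D ≤ M ⊓ L := hD ▸ inf_le_left
  have hPD : P ≤ Subgroup.normalizer (D : Set G) := by
    rw [hD]
    exact Cfsg.Agent.Lib.Helper4.BGTrans.le_normalizer_inf (hPJ.trans Subgroup.le_normalizer) hPσ
  have hcopD : (Nat.card ↥P).Coprime (Nat.card ↥D) :=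
    Nat.Coprime.coprime_dvd_right (Subgroup.card_dvd_of_le hDσ) hcopσ
  have hsolvD : Group.IsSolvable ↥D := solvable_of_le_coatom hG h.hM (hDσ.trans hσM)
  obtain ⟨Q₀, hQ₀, hPQ₀⟩ := exists_inv_sylow' (q := q) hPD hcopD hsolvD
  have hQ₀J : IsSylowIn q Q₀ (M ⊓ L) := by
    obtain ⟨Q₁, hQ₁, hle⟩ := exists_isSylowIn_ge hQ₀.isPGroup (hQ₀.1.trans hDJ)
    have hQ₁σ : Q₁ ≤ Cfsg.sigmaCore M :=
      le_sigmaCore_of_pgroup hG h.hM hqσ (hQ₁.1.trans inf_le_left) hQ₁.isPGroup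
    have hQ₁D : Q₁ ≤ D := by rw [hD]; exact le_inf hQ₁.1 hQ₁σ
    have : Q₁ = Q₀ := sylIn_eq_of_le hQ₀ hQ₁D hQ₁.isPGroup hle
    rw [← this]; exact hQ₁
  have hQ₀M : IsSylowIn q Q₀ M := h.sylIn_M_of_sylIn_J hG hqα hQ₀J
  have hQ₀top : IsSylowIn q Q₀ ⊤ := sigma_sylow_top hqσ hQ₀M
  have hQ₀σ : IsSylowIn q Q₀ (Cfsg.sigmaCore M) := sylIn_of_sylIn_top hQ₀top (hQ₀.1.trans hDσ)
  have hQ₀1 : Q₀ ≠ ⊥ := sylIn_ne_bot hQ₀M hqσ.2.1
  have claim : Q₀ ⊓ Subgroup.centralizer (P : Set G) = ⊥ := by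
    by_cases hqL : q ∈ Cfsg.sigma L
    · have hcfg : Cfg M L q Q₀ :=
        ⟨h.hM, h.hL, h.hnc, hq, hQ₀top, hQ₀1,
          le_inf (sigma_normalizer_le hqσ hQ₀M)
            (sigma_normalizer_le hqL (sylIn_of_sylIn_top hQ₀top (hQ₀J.1.trans inf_le_right)))⟩
      exact hcfg.inf_centralizer_E₁ hG (hcfg.nil hG) hE hEJ hP₁
    · by_contra hne
      have hpg : IsPGroup q ↥(Q₀ ⊓ Subgroup.centralizer (P : Set G) : Subgroup G) :=
        hQ₀.isPGroup.to_le inf_le_left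
      have hcard : Nat.card ↥(Q₀ ⊓ Subgroup.centralizer (P : Set G) : Subgroup G) ≠ 1 :=
        fun h1 => hne (Subgroup.card_eq_one.mp h1)
      have hqd : q ∣ Nat.card ↥(Q₀ ⊓ Subgroup.centralizer (P : Set G) : Subgroup G) := by
        obtain ⟨k, hk⟩ := hpg.exists_card_eq
        rw [hk]
        rcases Nat.eq_zero_or_pos k with hk0 | hk0
        · rw [hk0, pow_zero] at hk; exact absurd hk hcard
        · exact dvd_pow_self q hk0.ne'
      obtain ⟨y, hy⟩ := exists_prime_orderOf_dvd_card'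
        (G := ↥(Q₀ ⊓ Subgroup.centralizer (P : Set G) : Subgroup G)) q hqd
      have hyo : orderOf (y : G) = q := by rw [Subgroup.orderOf_coe]; exact hy
      have hyL : (y : G) ∈ L := (hQ₀J.1.trans inf_le_right) y.2.1
      have hyC : (y : G) ∈ Subgroup.centralizer (P : Set G) := y.2.2
      obtain ⟨a, ha, b, hb, hab⟩ := Cfsg.Agent.Lib.Helper5.BG13S.centralizer_decomp hE'
        (le_normalizer_sigmaCore L) hPE' hyL hyC
      have haP : a ∈ P := hCE' ha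
      have hcomm : a * b = b * a := Subgroup.mem_centralizer_iff.mp hb.2 a haP
      have hap : a ^ p = 1 := by
        have : (⟨a, haP⟩ : ↥P) ^ Nat.card ↥P = 1 := pow_card_eq_one'
        rw [hPc] at this
        exact congrArg Subtype.val this
      have hyp : (y : G) ^ p = b ^ p := by
        rw [hab, (Commute.mul_pow hcomm p), hap, one_mul]
      have hypσ : (y : G) ^ p ∈ Cfsg.sigmaCore L := by
        rw [hyp]; exact Subgroup.pow_mem _ hb.1 p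
      have hqσL : ¬ q ∣ Nat.card ↥(Cfsg.sigmaCore L) := fun hd =>
        hqL (mem_sigma_of_dvd_sigmaCore hG h.hL hq hd)
      have h1 : (y : G) ^ p = 1 := by
        have ho1 : orderOf ((y : G) ^ p) ∣ q := by
          rw [← hyo]; exact orderOf_pow_dvd p
        have ho2 : orderOf ((y : G) ^ p) ∣ Nat.card ↥(Cfsg.sigmaCore L) := by
          have := Subgroup.card_dvd_of_le (Subgroup.zpowers_le.mpr hypσ)
          rwa [Nat.card_zpowers] at this
        rcases (Nat.dvd_prime hq).mp ho1 with h3 | h3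
        · exact orderOf_eq_one_iff.mp h3
        · exact absurd (h3 ▸ ho2) hqσL
      have h2 : q ∣ p := by rw [← hyo]; exact orderOf_dvd_of_pow_eq_one h1
      have h3 : q = p := (Nat.prime_dvd_prime_iff_eq hq hp).mp h2
      exact hpτ.2.1 (h3 ▸ hqσ)
  exact hTr P (Cfsg.sigmaCore M) Q₀ Q q hq hPσ hcopσ hsolvσ hQ₀σ hQ hPQ₀ hPQ claim

/-- a nontrivial subgroup contains a subgroup of prime order -/
theorem exists_prime_order_le {Z : Subgroup G} (hZ : Z ≠ ⊥) :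
    ∃ (s : ℕ) (X : Subgroup G), s.Prime ∧ s ∣ Nat.card ↥Z ∧ X ≤ Z ∧ Nat.card ↥X = s := by
  have hcard : Nat.card ↥Z ≠ 1 := fun h1 => hZ (Subgroup.card_eq_one.mp h1)
  obtain ⟨s, hs, hsd⟩ := Nat.exists_prime_and_dvd hcard
  haveI : Fact s.Prime := ⟨hs⟩
  obtain ⟨x, hx⟩ := exists_prime_orderOf_dvd_card' (G := ↥Z) s hsd
  refine ⟨s, Subgroup.zpowers (x : G), hs, hsd, Subgroup.zpowers_le.mpr x.2, ?_⟩
  rw [Nat.card_zpowers, Subgroup.orderOf_coe]
  exact hx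

/-- **B&G Theorem 13.9, second half**: the configuration Σ is impossible -/
theorem false_of_cfg (hG : Cfsg.IsMinSimpleOddOrder G) (hPA : HypPA G) (hTr : HypTransfer G)
    (h : Cfg M L t T) : False := by
  have hU := Cfsg.Agent.H2.BG11.uniq hG
  -- the `M`-side: `E ≤ J`, `P` a Hall `τ₁(M)`-subgroup, of prime order `p`
  obtain ⟨E, hE, hEJ⟩ := exists_compl_le_inf hG h
  haveI : Group.IsSolvable ↥E := solvable_of_le_coatom hG h.hM hE.1
  obtain ⟨P, hP₁⟩ := Cfsg.Agent.H1.exists_isPiHallOf (Cfsg.tau1 M) E inferInstance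
  have hPAM := hPA M E P h.hM hE hP₁
  obtain ⟨hpp, hZ⟩ := h.card_E₁_prime hG hE hEJ hP₁ hPAM
  obtain ⟨p, hPc⟩ : ∃ p : ℕ, Nat.card ↥P = p := ⟨_, rfl⟩
  rw [hPc] at hpp
  haveI : Fact p.Prime := ⟨hpp⟩
  obtain ⟨hpτ, hτM, hppM⟩ := hall_card_facts hpp hP₁ hPc
  have hpL : p ∈ Cfsg.tau1 L :=
    h.mem_tau1_L hG hE hEJ hP₁ hPAM hpp (by rw [hPc])
  have hPJ : P ≤ M ⊓ L := hP₁.1.trans hEJ
  have hPJ' : P ≤ L ⊓ M := by rw [inf_comm]; exact hPJ
  have hP1 : P ≠ ⊥ := by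
    intro h0
    rw [h0, Subgroup.card_bot] at hPc
    exact hpp.one_lt.ne hPc
  -- the `L`-side: `F ≤ J`, `F₁` a Hall `τ₁(L)`-subgroup, of prime order
  obtain ⟨F, hF, hFJ⟩ := exists_compl_le_inf hG h.symm
  haveI : Group.IsSolvable ↥F := solvable_of_le_coatom hG h.hL hF.1
  obtain ⟨F₁, hF₁⟩ := Cfsg.Agent.H1.exists_isPiHallOf (Cfsg.tau1 L) F inferInstance
  have hPAL := hPA L F F₁ h.hL hF hF₁
  obtain ⟨hpp', -⟩ := h.symm.card_E₁_prime hG hF hFJ hF₁ hPAL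
  have hF₁c : Nat.card ↥F₁ = p := by
    have hcop : (Nat.card ↥P).Coprime (Nat.card ↥(Cfsg.sigmaCore L)) := by
      rw [hPc, Nat.Prime.coprime_iff_not_dvd hpp]
      intro hd
      exact hpL.2.1 (mem_sigma_of_dvd_sigmaCore hG h.hL hpp hd)
    obtain ⟨l, hl, hle⟩ := Cfsg.Agent.H2.BG12.exists_cj_compl_ge hG h.hL hF
      (hPJ.trans inf_le_right) hcop
    have h1 : p ∣ Nat.card ↥F := by
      have := Subgroup.card_dvd_of_le hle
      rwa [hPc, card_cj] at this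
    rw [Cfsg.Agent.H1.card_eq_relIndex_mul_card hF₁.1] at h1
    rcases (Nat.Prime.dvd_mul hpp).mp h1 with h2 | h2
    · exact absurd h2 (hF₁.2.2 p hpp hpL)
    · exact ((Nat.prime_dvd_prime_iff_eq hpp hpp').mp h2).symm
  obtain ⟨F', hF', hF'J, hPF'⟩ :=
    h.symm.exists_compl_of_card hG hF hFJ hF₁ hpp hF₁c hPJ' hPc
  have hPAL' := hPA L F' P h.hL hF' hPF'
  obtain ⟨-, hZ'⟩ := h.symm.card_E₁_prime hG hF' hF'J hPF' hPAL'
  -- `C_E(P) = P` on both sides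
  have hCEM := compl_inf_centralizer_le hG h.hM hE (h.not_tau2 hG) hpτ hP₁.1 hPc hτM hppM
  obtain ⟨-, hτL, hppL⟩ := hall_card_facts hpp hPF' hPc
  have hCEL := compl_inf_centralizer_le hG h.hL hF' (h.symm.not_tau2 hG) hpL hPF'.1 hPc hτL hppL
  -- fixed-point-freeness on both sides
  have hfM := h.fpf_side hG hTr hE hEJ hP₁ hpp hPc hF' hPF'.1 hCEL
  have hfL := h.symm.fpf_side hG hTr hF' hF'J hPF' hpp hPc hE hP₁.1 hCEM
  have hprM := (Cfsg.Agent.Lib.Helper5.BG13S.centralizer_primes hG h.hM hE hP₁.1 hPc hCEM hfM).2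
  have hprL := (Cfsg.Agent.Lib.Helper5.BG13S.centralizer_primes hG h.hL hF' hPF'.1 hPc hCEL hfL).2
  have hrkM := Cfsg.Agent.Lib.Helper4.BG1218.rankLE_one_alphaCore_inf_centralizer hG h.hM
    hpτ.2.1 hpτ.2.2.2.2 (hPJ.trans inf_le_left) hPc
  have hrkL := Cfsg.Agent.Lib.Helper4.BG1218.rankLE_one_alphaCore_inf_centralizer hG h.hL
    hpL.2.1 hpL.2.2.2.2 (hPJ.trans inf_le_right) hPc
  -- the two uniqueness points
  obtain ⟨s, X, hs, hsd, hXle, hXc⟩ := exists_prime_order_le hZ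
  obtain ⟨s', X', hs', hsd', hX'le, hX'c⟩ := exists_prime_order_le hZ'
  haveI : Fact s.Prime := ⟨hs⟩
  haveI : Fact s'.Prime := ⟨hs'⟩
  have hsα : s ∈ Cfsg.alpha M :=
    mem_alpha_of_dvd_alphaCore M hs (hsd.trans (Subgroup.card_dvd_of_le inf_le_left))
  have hs'α : s' ∈ Cfsg.alpha L :=
    mem_alpha_of_dvd_alphaCore L hs' (hsd'.trans (Subgroup.card_dvd_of_le inf_le_left))
  have hsσ : s ∈ Cfsg.sigma M := alpha_subset_sigma hG hU h.hM hsα
  have hs'σ : s' ∈ Cfsg.sigma L := alpha_subset_sigma hG hU h.hL hs'α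
  have hsβ : s ∈ Cfsg.beta M := by rw [← h.alpha_eq_beta hG]; exact hsα
  have hs'β : s' ∈ Cfsg.beta L := by rw [← h.symm.alpha_eq_beta hG]; exact hs'α
  have hs'M : s' ∉ Cfsg.alpha M := fun hc => h.alpha_not_sigma hG hc hs'σ
  have hsL : s ∉ Cfsg.alpha L := fun hc => h.symm.alpha_not_sigma hG hc hsσ
  have hss' : s ≠ s' := by
    rintro rfl
    exact hs'M hsα
  have hsp : s ≠ p := by
    rintro rfl
    exact hpτ.2.1 hsσ
  have hs'p : s' ≠ p := by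
    rintro rfl
    exact hpL.2.1 hs'σ
  exact Cfsg.Agent.Lib.Helper5.BG13S.sigma9 hG h.hM h.hL hP1 hss' hsβ hs'β hs'M hsL hsp hs'p
    (hXle.trans inf_le_left) (hXle.trans inf_le_right) hXc
    (hX'le.trans inf_le_left) (hX'le.trans inf_le_right) hX'c hrkM hrkL hprM hprL

end Cfg

end Cfsg.Agent.H2.BG13
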