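import Mathlib
import Cfsg.Agent.H2.BG13.D
import Cfsg.Agent.Lib.helper3.BG13D

/-!
# B&G Theorem 13.9 (S1378), part E (helper2): discharge of the hypotheses of part D
-/

set_option autoImplicit false
set_option linter.unusedVariables false
set_option linter.unusedSectionVars false
set_option linter.style.haveILetI false
set_option maxHeartbeats 1000000

open scoped commutatorElement Pointwise

namespace Cfsg.Agent.H2.BG13

open Cfsg Cfsg.Agent.Lib.Helper8.BGTen Cfsg.Agent.Lib.Helper4.BGTrans Cfsg.Agent.H2.BG11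
open Cfsg.Agent.H2.BGU
open Cfsg.Agent.Lib.Helper7 (IsSylowIn exists_isSylowIn_ge)

universe u

variable {G : Type u} [Group G] [Finite G]

theorem hypPA_holds (hG : Cfsg.IsMinSimpleOddOrder G) : HypPA G := by
  intro M E E₁ hM hE hE₁
  exact Cfsg.Agent.Lib.helper3.BG13.tau1_hall_prime_action hG hM hE hE₁

theorem hypTransfer_holds : HypTransfer G := by
  intro P K Q₀ Q q hq hPK hcop hsolv hQ₀ hQ hPQ₀ hPQ h0
  haveI : Fact q.Prime := ⟨hq⟩
  exact Cfsg.Agent.Lib.helper3.BG13.fpf_transfer hPK hcop hsolv hQ₀ hQ hPQ₀ hPQ h0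

/-- **B&G Theorem 13.9, second half** (unconditional): the configuration Σ is impossible -/
theorem Cfg.elim (hG : Cfsg.IsMinSimpleOddOrder G) {M L T : Subgroup G} {t : ℕ}
    (h : Cfg M L t T) : False :=
  h.false_of_cfg hG (hypPA_holds hG) hypTransfer_holds

end Cfsg.Agent.H2.BG13
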